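import Mathlib

/-!
# TEAM CX (S5242): interface

Central extensions of fusion systems.  Module language (`N` acts on the abelian group `D` and on the set `Ξ`), group
language (`Γ` acts on `X = Γ / S₀`), the commutator pairing of a central extension.
-/

set_option autoImplicit false

namespace Cfsg.Agent.H836.CX

open MulAction

universe u v w

/-! ### Module language -/

section Mod

variable {N : Type*} [Group N] {D : Type*} [AddCommGroup D] [DistribMulAction N D]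

/-- the norm `∑_{g ∈ P / R} g z` (in use `R ≤ P` and `z` is fixed by `R`) -/
noncomputable def nm (P R : Subgroup N) (z : D) : D :=
  ∑ᶠ q : P ⧸ R.subgroupOf P, ((Quotient.out q : P) : N) • z

/-- A family of subgroups `M P ≤ C_D(P)`, `Y ≤ P`, closed under restriction, conjugation and norms. -/
structure SubM (Y : Subgroup N) (M : Subgroup N → AddSubgroup D) : Prop where
  fix : ∀ (P : Subgroup N), Y ≤ P → ∀ z ∈ M P, ∀ g ∈ P, g • z = z
  anti : ∀ (P R : Subgroup N), Y ≤ R → R ≤ P → M P ≤ M R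
  conj : ∀ (P : Subgroup N), Y ≤ P → ∀ (g : N), ∀ z ∈ M P, g • z ∈ M (P.map (MulAut.conj g).toMonoidHom)
  norm : ∀ (P R : Subgroup N), Y ≤ R → R ≤ P → ∀ z ∈ M R, nm P R z ∈ M P

/-- `α`-subgroups: every subgroup of index `p` has the same fixed points on `V = {z | p z = 0}` -/
def Alpha (p : ℕ) (D : Type*) [AddCommGroup D] [DistribMulAction N D] (A : Subgroup N) : Prop :=
  ∀ B : Subgroup N, B ≤ A → B.relIndex A = p → ∀ z : D, p • z = 0 → (∀ b ∈ B, b • z = z) → ∀ a ∈ A, a • z = z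

/-- the elements `t` with `|V : C_V(t)| ≤ p` -/
def Tv (p : ℕ) (D : Type*) [AddCommGroup D] [DistribMulAction N D] (t : N) : Prop :=
  Nat.card {z : D // p • z = 0} ≤ p * Nat.card {z : D // p • z = 0 ∧ t • z = z}

/-- the family `𝒬_Y` -/
def Fam (p : ℕ) (D : Type*) [AddCommGroup D] [DistribMulAction N D] (Y P : Subgroup N) : Prop :=
  IsPGroup p P ∧ Y ≤ P ∧ ((∃ A ≤ P, Alpha p D A ∧ ¬ A ≤ Y) ∨ ∃ t ∈ P, t ∉ Y ∧ Tv p D t)

end Mod

/-! ### Group language -/

section Grp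

variable {Γ : Type*} [Group Γ]

/-- `α`-subgroups on the subgroup `V` -/
def AlphaG (p : ℕ) (V A : Subgroup Γ) : Prop :=
  ∀ B : Subgroup Γ, B ≤ A → B.relIndex A = p → ∀ z ∈ V, (∀ b ∈ B, b * z = z * b) → ∀ a ∈ A, a * z = z * a

/-- elements `t` with `|V : C_V(t)| ≤ p` -/
def TvG (p : ℕ) (V : Subgroup Γ) (t : Γ) : Prop :=
  Nat.card V ≤ p * Nat.card {z : Γ // z ∈ V ∧ t * z = z * t}

/-- `Ω₁(Z(Y))` -/
def Om (p : ℕ) (Y : Subgroup Γ) : Subgroup Γ where
  carrier := {z | z ∈ Y ∧ (∀ y ∈ Y, y * z = z * y) ∧ z ^ p = 1}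
  one_mem' := ⟨one_mem _, fun y _ => by rw [mul_one, one_mul], one_pow _⟩
  mul_mem' := by
    rintro a b ⟨ha, ha', ha2⟩ ⟨hb, hb', hb2⟩
    refine ⟨mul_mem ha hb, fun y hy => ?_, ?_⟩
    · rw [← mul_assoc, ha' y hy, mul_assoc, hb' y hy, mul_assoc]
    · have h : Commute a b := hb' a ha
      rw [h.mul_pow, ha2, hb2, one_mul]
  inv_mem' := by
    rintro a ⟨ha, ha', ha2⟩
    refine ⟨inv_mem ha, fun y hy => ?_, ?_⟩
    · have h : Commute y a := ha' y hy
      exact h.inv_right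
    · rw [inv_pow, ha2, inv_one]

/-- the family `𝒬_Y` -/
def FamG (p : ℕ) (Y P : Subgroup Γ) : Prop :=
  IsPGroup p P ∧ Y ≤ P ∧ ((∃ A ≤ P, AlphaG p (Om p Y) A ∧ ¬ A ≤ Y) ∨ ∃ t ∈ P, t ∉ Y ∧ TvG p (Om p Y) t)

/-- `p`-centric subgroups: `p`-subgroups containing every `p`-element of their centraliser -/
def Cent (p : ℕ) (P : Subgroup Γ) : Prop :=
  IsPGroup p P ∧ ∀ z : Γ, (∃ n : ℕ, z ^ p ^ n = 1) → (∀ u ∈ P, z * u = u * z) → z ∈ P

end Grp

/-! ### Cochains on `X` -/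

section Coch

variable {Γ : Type*} [Group Γ] {X : Type*} [MulAction Γ X] {A : Type*} [AddCommGroup A]

/-- stabilisers of points, pairs, triples -/
abbrev st1 (Γ : Type*) [Group Γ] {X : Type*} [MulAction Γ X] (x : X) : Subgroup Γ := stabilizer Γ x

abbrev st2 (Γ : Type*) [Group Γ] {X : Type*} [MulAction Γ X] (x y : X) : Subgroup Γ :=
  stabilizer Γ x ⊓ stabilizer Γ y

abbrev st3 (Γ : Type*) [Group Γ] {X : Type*} [MulAction Γ X] (x y z : X) : Subgroup Γ :=
  stabilizer Γ x ⊓ stabilizer Γ y ⊓ stabilizer Γ z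

/-- an exact cocycle `δ x y ∈ Hom(Γ_xy, A)` on the family `𝒳` -/
structure Ex (𝒳 : Subgroup Γ → Prop) (δ : X → X → Γ → A) : Prop where
  mul : ∀ x y, 𝒳 (st2 Γ x y) → ∀ u ∈ st2 Γ x y, ∀ v ∈ st2 Γ x y, δ x y (u * v) = δ x y u + δ x y v
  coc : ∀ x y z, 𝒳 (st3 Γ x y z) → ∀ u ∈ st3 Γ x y z, δ x y u + δ y z u = δ x z u
  equi : ∀ (g : Γ) x y, 𝒳 (st2 Γ x y) → ∀ u ∈ st2 Γ x y, δ (g • x) (g • y) (g * u * g⁻¹) = δ x y u

/-- the elements of `K(P) = {β(z, ·) : z ∈ Z(P)}` -/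
def InK (β : Γ → Γ → A) (P : Subgroup Γ) (f : Γ → A) : Prop :=
  ∃ z ∈ P, (∀ u ∈ P, u * z = z * u) ∧ ∀ u ∈ P, f u = β z u

/-- a cocycle with values in `Hom(P, A) / K(P)` on the `p`-centric subgroups -/
structure Dat (p : ℕ) (β : Γ → Γ → A) (d : X → X → Γ → A) : Prop where
  mul : ∀ x y, Cent p (st2 Γ x y) → ∀ u ∈ st2 Γ x y, ∀ v ∈ st2 Γ x y, d x y (u * v) = d x y u + d x y v
  coc : ∀ x y z, Cent p (st3 Γ x y z) → InK β (st3 Γ x y z) (fun u => d x y u + d y z u - d x z u)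
  equi : ∀ (g : Γ) x y, Cent p (st2 Γ x y) → InK β (st2 Γ x y) (fun u => d (g • x) (g • y) (g * u * g⁻¹) - d x y u)

end Coch

/-! ### Central extensions -/

section Ext

variable {A G Γ : Type*} [AddCommGroup A] [Group G] [Group Γ]

/-- a central extension `1 → A → G → Γ → 1` -/
structure CExt (i : Multiplicative A →* G) (π : G →* Γ) : Prop where
  inj : Function.Injective i
  surj : Function.Surjective π
  ker : π.ker = i.range
  cent : ∀ (a : Multiplicative A) (g : G), i a * g = g * i a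

/-- `β` is the commutator pairing: `i (β z u) = [ẑ, û]` whenever `z`, `u` commute -/
def IsPairing (i : Multiplicative A →* G) (π : G →* Γ) (β : Γ → Γ → A) : Prop :=
  ∀ z u : G, π z * π u = π u * π z → i (Multiplicative.ofAdd (β (π z) (π u))) = z * u * z⁻¹ * u⁻¹

end Ext

end Cfsg.Agent.H836.CX
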